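import Groth.Agent.CohLib.ExtInjective
import Mathlib.Algebra.Homology.ShortComplex.ModuleCat
import Mathlib.Algebra.Homology.DerivedCategory.Ext.Linear
import Mathlib.CategoryTheory.Linear.Yoneda

/-!
# Ext modules as cohomology of maps into an injective resolution
-/

universe u v

open CategoryTheory CategoryTheory.Limits CategoryTheory.Abelian CochainComplex.HomComplex

namespace Groth.Agent.ExtLinLib

variable {k : Type u} [CommRing k] {A : Type v} [Category.{u} A] [Abelian A] [Linear k A] [HasExt.{u} A] {X Y : A}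
  (R : InjectiveResolution Y)

lemma smul_extMk {n : ℕ} (f : X ⟶ R.cocomplex.X n) (m : ℕ) (hm : n + 1 = m)
    (hf : f ≫ R.cocomplex.d n m = 0) (r : k) :
    r • R.extMk f m hm hf = R.extMk (r • f) m hm (by rw [Linear.smul_comp, hf, smul_zero]) := by
  have h := R.mk₀_comp_extMk f m hm hf (r • 𝟙 X)
  rw [Ext.mk₀_smul, Ext.smul_comp, Ext.mk₀_id_comp] at h
  rw [h]
  congr 1
  rw [Linear.smul_comp, Category.id_comp]

/-- `Ext` computed by a complex isomorphic to maps into an injective resolution. -/
theorem nonempty_homology_iso_ext (K : CochainComplex (ModuleCat.{u} k) ℕ)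
    (e : ∀ n, K.X n ≃ₗ[k] (X ⟶ R.cocomplex.X n))
    (he : ∀ n x, e (n + 1) (K.d n (n + 1) x) = e n x ≫ R.cocomplex.d n (n + 1)) (n : ℕ) :
    Nonempty (K.homology n ≅ ModuleCat.of k (Ext.{u} X Y n)) := by
  let S := K.sc n
  have hcyc : ∀ x : K.X n, S.g x = 0 ↔ e n x ≫ R.cocomplex.d n (n + 1) = 0 := by
    intro x
    change K.d n ((ComplexShape.up ℕ).next n) x = 0 ↔ _
    rw [CochainComplex.next, ← he]
    exact (map_eq_zero_iff (e (n + 1)) (e (n + 1)).injective).symm
  let φ : LinearMap.ker S.g.hom →ₗ[k] Ext.{u} X Y n :=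
    { toFun := fun x => R.extMk (e n x.1) (n + 1) rfl ((hcyc x.1).1 x.2)
      map_add' := fun x y => by
        rw [InjectiveResolution.add_extMk]
        congr 1
        exact map_add (e n) x.1 y.1
      map_smul' := fun r x => by
        rw [RingHom.id_apply, smul_extMk]
        congr 1
        exact map_smul (e n) r x.1 }
  have hsurj : Function.Surjective φ := by
    intro α
    obtain ⟨f, hf, rfl⟩ := R.extMk_surjective α (n + 1) rfl
    refine ⟨⟨(e n).symm f, (hcyc _).2 (by rw [LinearEquiv.apply_symm_apply]; exact hf)⟩, ?_⟩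
    simp [φ]
  have hker : LinearMap.range S.moduleCatToCycles = LinearMap.ker φ := by
    ext x
    obtain ⟨x, hx⟩ := x
    change (∃ y, S.moduleCatToCycles y = ⟨x, hx⟩) ↔ R.extMk (e n x) (n + 1) rfl ((hcyc x).1 hx) = 0
    cases n with
    | zero =>
      rw [CohLib.extMkInj_eq_zero_iff₀]
      constructor
      · rintro ⟨y, hy⟩
        have h1 : K.d ((ComplexShape.up ℕ).prev 0) 0 y = x := congrArg Subtype.val hy
        rw [K.shape _ _ (by simp)] at h1
        rw [← h1]
        exact map_zero (e 0)
      · intro h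
        refine ⟨0, Subtype.ext ?_⟩
        change K.d _ 0 0 = x
        rw [map_zero]
        exact ((map_eq_zero_iff (e 0) (e 0).injective).1 h).symm
    | succ p =>
      rw [R.extMk_eq_zero_iff _ _ _ _ p rfl]
      constructor
      · rintro ⟨y, hy⟩
        have h1 : K.d ((ComplexShape.up ℕ).prev (p + 1)) (p + 1) y = x := congrArg Subtype.val hy
        have hp : (ComplexShape.up ℕ).prev (p + 1) = p := by simp
        have h2 : ∃ z : K.X ((ComplexShape.up ℕ).prev (p + 1)),
            K.d ((ComplexShape.up ℕ).prev (p + 1)) (p + 1) z = x := ⟨y, h1⟩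
        rw [hp] at h2
        obtain ⟨z, hz⟩ := h2
        exact ⟨e p z, by rw [← he, hz]⟩
      · rintro ⟨g, hg⟩
        have h2 : ∃ y : K.X ((ComplexShape.up ℕ).prev (p + 1)),
            K.d ((ComplexShape.up ℕ).prev (p + 1)) (p + 1) y = x := by
          rw [show (ComplexShape.up ℕ).prev (p + 1) = p by simp]
          exact ⟨(e p).symm g, (e (p + 1)).injective (by rw [he, LinearEquiv.apply_symm_apply, hg])⟩
        obtain ⟨y, hy⟩ := h2
        exact ⟨y, Subtype.ext hy⟩
  exact ⟨S.moduleCatHomologyIso ≪≫ ((Submodule.quotEquivOfEq _ _ hker).trans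
    (φ.quotKerEquivOfSurjective hsurj)).toModuleIso⟩

end Groth.Agent.ExtLinLib
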